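/-
Derived lengths of 2-groups of permutations and of iterated wreath products.
-/
import Mathlib
import Cfsg.Agent.Lib.PGroups.Frattini

set_option autoImplicit false
set_option linter.unusedSectionVars false

namespace Cfsg.Agent.Lib.SylowDerived52

open scoped commutatorElement

theorem derivedSeries_succ_le {G : Type*} [Group G] {M : Subgroup G} (hM : commutator G ≤ M) :
    ∀ k, derivedSeries G (k + 1) ≤ (derivedSeries M k).map M.subtype
  | 0 => by rw [derivedSeries_one, derivedSeries_zero, ← MonoidHom.range_eq_map, Subgroup.range_subtype]; exact hM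
  | k + 1 => by
    rw [derivedSeries_succ G (k + 1), derivedSeries_succ M k, Subgroup.map_commutator]
    exact Subgroup.commutator_mono (derivedSeries_succ_le hM k) (derivedSeries_succ_le hM k)

theorem eq_bot_of_injective {G H : Type*} [Group G] [Group H] (f : G →* H) (hf : Function.Injective f)
    {k : ℕ} (h : derivedSeries H k = ⊥) : derivedSeries G k = ⊥ := by
  have h1 := map_derivedSeries_le_derivedSeries f k
  rw [h, le_bot_iff] at h1
  exact (Subgroup.map_eq_bot_iff_of_injective _ hf).1 h1

/-- A point with orbit of size at most `2^d` is fixed by the `d`-th derived subgroup. -/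
theorem smul_eq_of_orbit_le {X : Type*} [Finite X] : ∀ (d : ℕ) (P : Type) [Group P] [Finite P]
    [MulAction P X], IsPGroup 2 P → ∀ x : X, (MulAction.orbit P x).ncard ≤ 2 ^ d →
      ∀ g ∈ derivedSeries P d, g • x = x := by
  intro d
  induction d with
  | zero =>
    intro P _ _ _ _ x hx g _
    rw [pow_zero] at hx
    exact (Set.ncard_le_one (Set.toFinite _)).1 hx _ (MulAction.mem_orbit x g) _ (MulAction.mem_orbit_self x)
  | succ d ih =>
    intro P _ _ _ hP x hx g hg
    haveI : Fact (Nat.Prime 2) := ⟨Nat.prime_two⟩
    by_cases htop : MulAction.stabilizer P x = ⊤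
    · have : g ∈ MulAction.stabilizer P x := htop ▸ Subgroup.mem_top g
      exact this
    obtain ⟨M, hM, hle⟩ := (eq_top_or_exists_le_coatom (MulAction.stabilizer P x)).resolve_left htop
    haveI hMn : M.Normal := PGroups.coatom_normal hP hM
    have hidx : M.index = 2 := PGroups.coatom_index hP hM
    have hcomm : commutator P ≤ M := (PGroups.commutator_le_frattini hP).trans (frattini_le_coatom hM)
    obtain ⟨⟨m, hm⟩, hm', rfl⟩ := derivedSeries_succ_le hcomm d hg
    refine ih M (hP.to_subgroup M) x ?_ ⟨m, hm⟩ hm'
    have h1 : (MulAction.stabilizer P x).relIndex M * M.index = (MulAction.stabilizer P x).index :=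
      Subgroup.relIndex_mul_index hle
    have h2 : (MulAction.stabilizer M x).index = (MulAction.stabilizer P x).relIndex M := rfl
    rw [MulAction.index_stabilizer] at h1 h2
    rw [hidx, ← h2] at h1
    rw [pow_succ] at hx
    omega

/-- The derived length of a 2-group of permutations. -/
theorem derivedSeries_perm_eq_bot {n : ℕ} (hn : 1 ≤ n) (T : Subgroup (Equiv.Perm (Fin n)))
    (hT : IsPGroup 2 T) : derivedSeries T (Nat.log 2 n) = ⊥ := by
  rw [Subgroup.eq_bot_iff_forall]
  intro g hg
  refine Subtype.ext (Equiv.ext fun x => ?_)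
  refine smul_eq_of_orbit_le (Nat.log 2 n) T hT x ?_ g hg
  haveI : Fact (Nat.Prime 2) := ⟨Nat.prime_two⟩
  obtain ⟨j, hj⟩ := hT.card_orbit x
  rw [Nat.card_coe_set_eq] at hj
  rw [hj]
  have hle : (MulAction.orbit T x).ncard ≤ n := by
    simpa using Set.ncard_le_ncard (Set.subset_univ (MulAction.orbit T x)) Set.finite_univ
  exact Nat.pow_le_pow_right (by norm_num) (Nat.le_log_of_pow_le (by norm_num) (hj ▸ hle))

/-- The derived length of a semidirect product. -/
theorem derivedSeries_semidirect {ι D T : Type*} [Group D] [Group T] {φ : T →* MulAut (ι → D)}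
    {a b : ℕ} (ha : derivedSeries D a = ⊥) (hb : derivedSeries T b = ⊥) :
    derivedSeries ((ι → D) ⋊[φ] T) (b + a) = ⊥ := by
  have hb' : derivedSeries ((ι → D) ⋊[φ] T) b ≤
      (SemidirectProduct.inl : (ι → D) →* (ι → D) ⋊[φ] T).range := by
    rw [SemidirectProduct.range_inl_eq_ker_rightHom, ← MonoidHom.comap_bot, ← Subgroup.map_le_iff_le_comap,
      ← hb]
    exact map_derivedSeries_le_derivedSeries _ b
  have hk : ∀ k, derivedSeries ((ι → D) ⋊[φ] T) (b + k) ≤
      (derivedSeries (ι → D) k).map SemidirectProduct.inl := by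
    intro k
    induction k with
    | zero => simpa [← MonoidHom.range_eq_map] using hb'
    | succ k ih =>
      rw [← add_assoc, derivedSeries_succ, derivedSeries_succ, Subgroup.map_commutator]
      exact Subgroup.commutator_mono ih ih
  have hpi : derivedSeries (ι → D) a = ⊥ := by
    rw [Subgroup.eq_bot_iff_forall]
    intro f hf
    funext i
    have := map_derivedSeries_le_derivedSeries (Pi.evalMonoidHom (fun _ : ι => D) i) a
      (Subgroup.mem_map_of_mem _ hf)
    rwa [ha, Subgroup.mem_bot] at this
  exact le_bot_iff.1 ((hk a).trans (by rw [hpi, Subgroup.map_bot]))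

/-- Wreathing with two points raises the derived length. -/
theorem derivedSeries_wreath_two_ne_bot {W : Type*} [Group W] {k : ℕ} (h : derivedSeries W k ≠ ⊥) :
    derivedSeries ((Bool → W) ⋊[mulAutArrow] Equiv.Perm Bool) (k + 1) ≠ ⊥ := by
  set G := (Bool → W) ⋊[mulAutArrow] Equiv.Perm Bool
  set B := (SemidirectProduct.inl : (Bool → W) →* G).range
  let s : G := SemidirectProduct.inr (Equiv.swap false true)
  let K : Subgroup (Bool → W) := (commutator G).comap SemidirectProduct.inl
  have hsurj : ∀ w : W, ∃ f ∈ K, f false = w := by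
    intro w
    refine ⟨fun b => if b = false then w else w⁻¹, ?_, rfl⟩
    let f₀ : Bool → W := fun b => if b = false then w else 1
    show SemidirectProduct.inl _ ∈ commutator G
    have he : SemidirectProduct.inl (fun b => if b = false then w else w⁻¹) =
        ⁅(SemidirectProduct.inl f₀ : G), s⁆ := by
      rw [commutatorElement_def, ← map_inv, ← map_inv, mul_assoc (SemidirectProduct.inl f₀),
        mul_assoc (SemidirectProduct.inl f₀), ← SemidirectProduct.inl_aut, ← map_mul]
      congr 1
      funext b
      cases b <;> simp [f₀, mulAutArrow] <;> rfl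
    rw [he]
    exact Subgroup.commutator_mem_commutator (Subgroup.mem_top _) (Subgroup.mem_top _)
  let π : K →* W := (Pi.evalMonoidHom (fun _ : Bool => W) false).comp K.subtype
  have hπ : Function.Surjective π := fun w => by
    obtain ⟨f, hf, he⟩ := hsurj w
    exact ⟨⟨f, hf⟩, he⟩
  intro hbot
  apply h
  rw [← map_derivedSeries_eq hπ k, Subgroup.map_eq_bot_iff]
  let ι : K →* commutator G :=
    ((SemidirectProduct.inl : (Bool → W) →* G).comp K.subtype).codRestrict (commutator G) fun f => f.2
  have hι : Function.Injective ι := fun f g e =>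
    Subtype.ext (SemidirectProduct.inl_injective (congrArg Subtype.val e))
  have h0 : derivedSeries (commutator G) k = ⊥ := by
    rw [← Subgroup.map_eq_bot_iff_of_injective _ (commutator G).subtype_injective, ← le_bot_iff, ← hbot]
    have : ∀ j, (derivedSeries (commutator G) j).map (commutator G).subtype ≤ derivedSeries G (j + 1) := by
      intro j
      induction j with
      | zero => rw [derivedSeries_zero, ← MonoidHom.range_eq_map, Subgroup.range_subtype, derivedSeries_one]
      | succ j ih =>
        rw [derivedSeries_succ, derivedSeries_succ _ (j + 1), Subgroup.map_commutator]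
        exact Subgroup.commutator_mono ih ih
    exact this k
  rw [eq_bot_of_injective ι hι h0]
  exact bot_le

/-! ### Embedding wreath products into larger ones -/

section Embed

variable {D : Type*} [Group D] {ι κ ι' : Type*}

/-- Two copies of a wreath product inside a larger one. -/
def doubleHom {W : Type*} [Group W] (φ : W →* (ι → D) ⋊[mulAutArrow] Equiv.Perm ι) :
    (Bool → W) ⋊[mulAutArrow] Equiv.Perm Bool →* (ι × Bool → D) ⋊[mulAutArrow] Equiv.Perm (ι × Bool) where
  toFun x :=
    ⟨fun p => (φ (x.left p.2)).left p.1,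
      { toFun := fun p => ((φ (x.left (x.right p.2))).right p.1, x.right p.2)
        invFun := fun p => ((φ (x.left p.2)).right⁻¹ p.1, x.right⁻¹ p.2)
        left_inv := fun p => by simp
        right_inv := fun p => by simp }⟩
  map_one' := by
    refine SemidirectProduct.ext ?_ ?_
    · funext p; simp
    · ext p <;> simp
  map_mul' x y := by
    refine SemidirectProduct.ext ?_ ?_
    · funext p
      show (φ (x.left p.2 * y.left (x.right⁻¹ p.2))).left p.1 = _
      rw [map_mul]
      rfl
    · refine Equiv.ext fun p => ?_
      show ((φ (x.left (x.right (y.right p.2)) * y.left (x.right.symm (x.right (y.right p.2))))).right p.1,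
          x.right (y.right p.2)) = _
      rw [Equiv.symm_apply_apply, map_mul]
      rfl

theorem doubleHom_injective [Nonempty ι] {W : Type*} [Group W]
    {φ : W →* (ι → D) ⋊[mulAutArrow] Equiv.Perm ι} (hφ : Function.Injective φ) :
    Function.Injective (doubleHom φ) := by
  intro x y h
  have hr : x.right = y.right := Equiv.ext fun b =>
    (congrArg Prod.snd (Equiv.ext_iff.1 (congrArg SemidirectProduct.right h) (Classical.arbitrary ι, b)) : _)
  refine SemidirectProduct.ext (funext fun b => hφ (SemidirectProduct.ext (funext fun i => ?_)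
    (Equiv.ext fun i => ?_))) hr
  · exact congrFun (congrArg SemidirectProduct.left h) (i, b)
  · have := congrArg Prod.fst (Equiv.ext_iff.1 (congrArg SemidirectProduct.right h) (i, x.right⁻¹ b))
    simpa [doubleHom, hr] using this

/-- Extending a wreath product by fixed coordinates. -/
def extendHom (e : ι ⊕ κ ≃ ι') :
    (ι → D) ⋊[mulAutArrow] Equiv.Perm ι →* (ι' → D) ⋊[mulAutArrow] Equiv.Perm ι' where
  toFun x := ⟨fun j => Sum.elim x.left 1 (e.symm j), e.permCongr (Equiv.Perm.sumCongr x.right 1)⟩
  map_one' := by
    refine SemidirectProduct.ext ?_ ?_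
    · funext j; rcases h : e.symm j <;> simp [h]
    · ext j
      obtain ⟨i, rfl⟩ := e.surjective j
      rcases i with i | i <;> simp
  map_mul' x y := by
    refine SemidirectProduct.ext ?_ ?_
    · funext j
      show Sum.elim (x.left * fun i => y.left (x.right.symm i)) 1 (e.symm j) = Sum.elim x.left 1 (e.symm j) *
        Sum.elim y.left 1 (e.symm ((e.permCongr (Equiv.Perm.sumCongr x.right 1)).symm j))
      obtain ⟨i, rfl⟩ := e.surjective j
      have hσ : ∀ σ : Equiv.Perm (ι ⊕ κ), ∀ z, (e.permCongr σ).symm (e z) = e (σ.symm z) := fun σ z => by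
        rw [Equiv.symm_apply_eq, Equiv.permCongr_apply]; simp
      rcases i with i | i <;> simp [hσ]
    · ext j
      obtain ⟨i, rfl⟩ := e.surjective j
      rcases i with i | i <;> simp

theorem extendHom_injective (e : ι ⊕ κ ≃ ι') : Function.Injective (extendHom (D := D) e) := by
  intro x y h
  refine SemidirectProduct.ext (funext fun i => ?_) (Equiv.ext fun i => ?_)
  · simpa [extendHom] using congrFun (congrArg SemidirectProduct.left h) (e (.inl i))
  · simpa [extendHom] using Equiv.ext_iff.1 (congrArg SemidirectProduct.right h) (e (.inl i))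

end Embed

/-- A 2-group of large derived length in a wreath product. -/
theorem exists_large.{u} {D : Type u} [Group D] [Finite D] (hD : IsPGroup 2 D) (hne : derivedSeries D 1 ≠ ⊥) :
    ∀ m, ∃ (ι : Type) (_ : Fintype ι) (W : Type u) (_ : Group W) (_ : Finite W)
      (φ : W →* (ι → D) ⋊[mulAutArrow] Equiv.Perm ι),
      Fintype.card ι = 2 ^ m ∧ Function.Injective φ ∧ IsPGroup 2 W ∧ derivedSeries W (m + 1) ≠ ⊥ := by
  intro m
  induction m with
  | zero =>
    exact ⟨Unit, inferInstance, D, inferInstance, inferInstance,
      SemidirectProduct.inl.comp (MonoidHom.pi fun _ => MonoidHom.id D), rfl,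
      fun a b h => congrFun (congrArg SemidirectProduct.left h) (), hD, hne⟩
  | succ m ih =>
    obtain ⟨ι, hι, W, hW, hWf, φ, hc, hinj, hp, hd⟩ := ih
    haveI : Nonempty ι := Fintype.card_pos_iff.1 (by rw [hc]; positivity)
    haveI : Finite ((Bool → W) ⋊[mulAutArrow] Equiv.Perm Bool) := Finite.of_equiv _ SemidirectProduct.equivProd.symm
    refine ⟨ι × Bool, inferInstance, _, inferInstance, inferInstance, doubleHom φ,
      by rw [Fintype.card_prod, hc, Fintype.card_bool, pow_succ], doubleHom_injective hinj, ?_,
      derivedSeries_wreath_two_ne_bot hd⟩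
    haveI : Fact (Nat.Prime 2) := ⟨Nat.prime_two⟩
    obtain ⟨j, hj⟩ := IsPGroup.iff_card.1 hp
    refine IsPGroup.of_card (n := 2 * j + 1) ?_
    rw [SemidirectProduct.card, Nat.card_fun, Nat.card_perm, hj, Nat.card_eq_fintype_card (α := Bool),
      Fintype.card_bool, Nat.factorial_two, ← pow_mul, ← pow_succ, mul_comm]

end Cfsg.Agent.Lib.SylowDerived52
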