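/-
The derived length of a Sylow 2-subgroup of a symplectic group in odd characteristic.
-/
import Cfsg.Agent.Lib.SylowDerived52.Basic
import Cfsg.Agent.Lib.SylowOrth52.SympLinear

set_option autoImplicit false
set_option linter.unusedSectionVars false

namespace Cfsg.Agent.Lib.SylowDerived52

open scoped Matrix commutatorElement
open Cfsg.Agent.Lib.SylowOrth52

theorem quaternion_derived_two (n : ℕ) : derivedSeries (QuaternionGroup n) 2 = ⊥ := by
  let χ : QuaternionGroup n →* Multiplicative (ZMod 2) :=
    { toFun := fun g => match g with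
        | .a _ => 1
        | .xa _ => Multiplicative.ofAdd 1
      map_one' := rfl
      map_mul' := fun x y => by
        rcases x with i | i <;> rcases y with j | j
        · rfl
        · rfl
        · rfl
        · show (1 : Multiplicative (ZMod 2)) = Multiplicative.ofAdd 1 * Multiplicative.ofAdd 1
          decide }
  have h1 : derivedSeries (QuaternionGroup n) 1 ≤ χ.ker := by
    rw [derivedSeries_one]
    exact Abelianization.commutator_subset_ker χ
  rw [derivedSeries_succ, eq_bot_iff]
  refine (Subgroup.commutator_mono h1 h1).trans ?_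
  rw [Subgroup.commutator_le]
  intro x hx y hy
  rw [Subgroup.mem_bot, commutatorElement_eq_one_iff_mul_comm]
  rcases x with i | i <;> rcases y with j | j
  · rw [QuaternionGroup.a_mul_a, QuaternionGroup.a_mul_a, add_comm]
  all_goals first
    | exact absurd (MonoidHom.mem_ker.1 hx) (show (Multiplicative.ofAdd (1 : ZMod 2)) ≠ 1 by decide)
    | exact absurd (MonoidHom.mem_ker.1 hy) (show (Multiplicative.ofAdd (1 : ZMod 2)) ≠ 1 by decide)

theorem quaternion_derived_one {n : ℕ} (hn : 2 ≤ n) : derivedSeries (QuaternionGroup n) 1 ≠ ⊥ := by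
  intro h
  have hc : ∀ x y : QuaternionGroup n, x * y = y * x := fun x y => by
    rw [← commutatorElement_eq_one_iff_mul_comm, ← Subgroup.mem_bot, ← h, derivedSeries_one]
    exact Subgroup.commutator_mem_commutator (Subgroup.mem_top _) (Subgroup.mem_top _)
  have h1 := hc (QuaternionGroup.a 1) (QuaternionGroup.xa 0)
  rw [QuaternionGroup.a_mul_xa, QuaternionGroup.xa_mul_a, QuaternionGroup.xa.injEq] at h1
  have h2 : ((2 : ℕ) : ZMod (2 * n)) = 0 := by push_cast; linear_combination -h1
  rw [ZMod.natCast_eq_zero_iff] at h2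
  have := Nat.le_of_dvd (by norm_num) h2
  omega

variable {F : Type*} [Field F] [Fintype F]

theorem blk_mem_symp {n : ℕ} {D : Type*} [Group D] (f : D →* Matrix (Fin 2) (Fin 2) F)
    (hf : ∀ d, (f d).det = 1) (T : Subgroup (Equiv.Perm (Fin n))) (w : (Fin n → D) ⋊[mulAutArrow] T) :
    blk f T w ∈ Matrix.symplecticGroup (Fin n) F := by
  rw [SymplecticGroup.mem_iff, blk_apply, Matrix.transpose_mul, J_eq_dblock]
  have hP : pblock F w.right.1 * dblock (fun _ => jPl F) * (pblock F w.right.1)ᵀ =
      dblock (fun _ => jPl F) := by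
    rw [pblock_dblock, mul_assoc]
    have ht : (pblock F w.right.1)ᵀ = pblock F (w.right.1)⁻¹ := by
      show (Equiv.Perm.permMatrix F (Equiv.Perm.sumCongr w.right.1 w.right.1)⁻¹)ᵀ = _
      rw [Matrix.transpose_permMatrix, inv_inv]
      show _ = Equiv.Perm.permMatrix F (Equiv.Perm.sumCongr w.right.1⁻¹ w.right.1⁻¹)⁻¹
      rw [Equiv.Perm.sumCongr_inv, inv_inv]
    rw [ht, ← map_mul, mul_inv_cancel, map_one, mul_one]
  rw [show dblock (fun i => f (w.left i)) * pblock F w.right.1 * dblock (fun _ => jPl F) *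
      ((pblock F w.right.1)ᵀ * (dblock fun i => f (w.left i))ᵀ) =
    dblock (fun i => f (w.left i)) * (pblock F w.right.1 * dblock (fun _ => jPl F) *
      (pblock F w.right.1)ᵀ) * (dblock fun i => f (w.left i))ᵀ by simp only [mul_assoc],
    hP, dblock_transpose, dblock_mul, dblock_mul]
  congr 1
  funext i
  exact sl2_jPl _ (hf _)

/-- The monomial embedding into the symplectic group. -/
def sympHom {n : ℕ} {D : Type*} [Group D] (f : D →* Matrix (Fin 2) (Fin 2) F)
    (hf : ∀ d, (f d).det = 1) (T : Subgroup (Equiv.Perm (Fin n))) :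
    (Fin n → D) ⋊[mulAutArrow] T →* Matrix.symplecticGroup (Fin n) F where
  toFun w := ⟨blk f T w, blk_mem_symp f hf T w⟩
  map_one' := Subtype.ext (map_one (blk f T))
  map_mul' a b := Subtype.ext (map_mul (blk f T) a b)

theorem sympHom_injective {n : ℕ} {D : Type*} [Group D] (f : D →* Matrix (Fin 2) (Fin 2) F)
    (hf : ∀ d, (f d).det = 1) (hinj : Function.Injective f) (T : Subgroup (Equiv.Perm (Fin n))) :
    Function.Injective (sympHom f hf T) := fun _ _ h => blk_injective f T hinj (congrArg Subtype.val h)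

theorem sp_sylow_derived (hF : Odd (Fintype.card F)) (n : ℕ) (hn : 1 ≤ n)
    (R : Sylow 2 (Matrix.symplecticGroup (Fin n) F)) :
    derivedSeries (R : Subgroup (Matrix.symplecticGroup (Fin n) F)) (Nat.log 2 (2 * n) + 1) = ⊥ ∧
      derivedSeries (R : Subgroup (Matrix.symplecticGroup (Fin n) F)) (Nat.log 2 (2 * n)) ≠ ⊥ := by
  classical
  haveI : Fact (Nat.Prime 2) := ⟨Nat.prime_two⟩
  have hlog : Nat.log 2 (2 * n) = Nat.log 2 n + 1 := by
    rw [mul_comm, Nat.log_mul_base (by norm_num) (by omega)]
  rw [hlog]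
  have hq := Nat.odd_iff.1 hF
  have h1 : 1 < Fintype.card F := Fintype.one_lt_card
  let Q : Sylow 2 (Matrix.SpecialLinearGroup (Fin 2) F) := default
  let f : (Q : Subgroup (Matrix.SpecialLinearGroup (Fin 2) F)) →* Matrix (Fin 2) (Fin 2) F :=
    { toFun := fun g => g.1.1
      map_one' := rfl
      map_mul' := fun _ _ => rfl }
  have hfd : ∀ g, (f g).det = 1 := fun g => g.1.2
  have hfi : Function.Injective f := fun g g' e => Subtype.ext (Subtype.ext e)
  obtain ⟨k, hk, ⟨e⟩⟩ := Cfsg.Agent.Lib.Linear.sylow_two_SL2_quaternion hF Q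
  constructor
  · obtain ⟨T, hTc, -⟩ := exists_goodSylow n
    have hcard : Nat.card ((Fin n → (Q : Subgroup (Matrix.SpecialLinearGroup (Fin 2) F))) ⋊[mulAutArrow] T) =
        2 ^ (Nat.card (Matrix.symplecticGroup (Fin n) F)).factorization 2 := by
      rw [SemidirectProduct.card, Nat.card_fun, Nat.card_fin, Q.card_eq_multiplicity, hTc, ← pow_mul,
        ← pow_add, Cfsg.Agent.Lib.Symplectic.card_sp Nat.card_eq_fintype_card n,
        v2_mul (pow_ne_zero _ (by omega)) (prod_pow_ne_zero h1 n), v2_pow_odd hq, zero_add, v2_prod h1 hq,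
        v2_card_SL_two hq, mul_comm (tq _)]
    let W : Sylow 2 (Matrix.symplecticGroup (Fin n) F) := Sylow.ofCard (sympHom f hfd T).range
      (by rw [← hcard, ← Nat.card_congr (MonoidHom.ofInjective (sympHom_injective f hfd hfi T)).toEquiv])
    have eW := ((MonoidHom.ofInjective (sympHom_injective f hfd hfi T)).trans (W.equiv R)).symm
    refine eq_bot_of_injective eW.toMonoidHom eW.injective ?_
    rw [add_assoc]
    exact derivedSeries_semidirect
      (eq_bot_of_injective e.toMonoidHom e.injective (quaternion_derived_two _))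
      (derivedSeries_perm_eq_bot hn T (IsPGroup.of_card hTc))
  · have hne : derivedSeries (Q : Subgroup (Matrix.SpecialLinearGroup (Fin 2) F)) 1 ≠ ⊥ := fun h =>
      quaternion_derived_one (Nat.le_self_pow (by omega) 2) (eq_bot_of_injective e.symm.toMonoidHom e.symm.injective h)
    obtain ⟨ι, _, W, _, _, φ, hc, hinj, hp, hd⟩ := exists_large Q.isPGroup' hne (Nat.log 2 n)
    let κ := Fin (n - Fintype.card ι)
    have hcn : Fintype.card (ι ⊕ κ) = n := by
      have := Nat.pow_log_le_self 2 (show n ≠ 0 by omega)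
      rw [Fintype.card_sum, Fintype.card_fin]; omega
    let ψ : W →* (Fin n → (Q : Subgroup (Matrix.SpecialLinearGroup (Fin 2) F))) ⋊[mulAutArrow]
        (⊤ : Subgroup (Equiv.Perm (Fin n))) :=
      { toFun := fun w => ⟨(extendHom (Fintype.equivFinOfCardEq hcn) (φ w)).left,
          ⟨(extendHom (Fintype.equivFinOfCardEq hcn) (φ w)).right, Subgroup.mem_top _⟩⟩
        map_one' := by simp only [map_one]; rfl
        map_mul' := fun a b => by simp only [map_mul]; rfl }
    have hψ : Function.Injective ψ := fun a b h => hinj (extendHom_injective (Fintype.equivFinOfCardEq hcn)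
      (SemidirectProduct.ext (show (ψ a).left = (ψ b).left by rw [h])
        (show (ψ a).right.1 = (ψ b).right.1 by rw [h])))
    let Φ := (sympHom f hfd ⊤).comp ψ
    have hΦ : Function.Injective Φ := (sympHom_injective f hfd hfi ⊤).comp hψ
    obtain ⟨S, hS⟩ := (hp.of_equiv (MonoidHom.ofInjective hΦ)).exists_le_sylow
    let Ψ : W →* (R : Subgroup (Matrix.symplecticGroup (Fin n) F)) :=
      (S.equiv R).toMonoidHom.comp ((Subgroup.inclusion hS).comp Φ.rangeRestrict)
    have hΨ : Function.Injective Ψ := (S.equiv R).injective.comp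
      ((Subgroup.inclusion_injective hS).comp fun a b h => hΦ (congrArg Subtype.val h))
    exact fun h => hd (eq_bot_of_injective Ψ hΨ h)

end Cfsg.Agent.Lib.SylowDerived52
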